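import Mathlib
import Cfsg.Agent.Tits.Exchange

/-!
# Bruhat cells: fixed points of an element of `B` on the cosets of the parabolic subgroups (helper115)

`Bru cs B P C` : `G` is the disjoint union of the double cosets `C w` of `B`, `w` in the Coxeter group `W`,
`C v * C w = C (v w)` if the lengths add, and `P J` is the union of the cells over `W_J`.

* `Bru.sum_fixed` : for `b ∈ B` and `J` a set of nodes with longest element `w`, the alternating sum over `K ⊆ J` of
  `(-1) ^ #K` times the number of cosets `g P_K` in `P_J` fixed by `b` is the number of cosets `g B`, `g` in the cell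
  of `w`, fixed by `b`.
-/

set_option autoImplicit false

namespace Cfsg.Agent.H115

open CoxeterSystem Cfsg.Agent.Tits.Core Cfsg.Agent.Tits.Exchange

variable {I W G : Type*} [Group W] [Group G] {M : CoxeterMatrix I}

/-- Bruhat cells of a group with a (B,N)-pair of type `cs`. -/
structure Bru (cs : CoxeterSystem M W) (B : Subgroup G) (P : Set I → Subgroup G) (C : W → G → Prop) : Prop where
  mul_left : ∀ {w : W} {g b : G}, C w g → b ∈ B → C w (b * g)
  mul_right : ∀ {w : W} {g b : G}, C w g → b ∈ B → C w (g * b)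
  one : ∀ {g : G}, C 1 g ↔ g ∈ B
  mul : ∀ {v w : W} {a b : G}, cs.length (v * w) = cs.length v + cs.length w → C v a → C w b → C (v * w) (a * b)
  unique : ∀ {v w : W} {g : G}, C v g → C w g → v = w
  single : ∀ {w : W} {g g' : G}, C w g → C w g' → ∃ b ∈ B, ∃ b' ∈ B, g' = b * g * b'
  ex : ∀ w : W, ∃ g, C w g
  cover : ∀ g : G, ∃ w, C w g
  mem_P : ∀ {J : Set I} {g : G}, g ∈ P J ↔ ∃ w ∈ WJ cs J, C w g

variable {cs : CoxeterSystem M W} {B : Subgroup G} {P : Set I → Subgroup G} {C : W → G → Prop}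

namespace Bru

variable (H : Bru cs B P C)

include H

theorem B_le (J : Set I) : B ≤ P J := fun _ hb => H.mem_P.2 ⟨1, one_mem _, H.one.2 hb⟩

/-- the cell of an element -/
noncomputable def dl (g : G) : W := (H.cover g).choose

theorem dl_spec (g : G) : C (H.dl g) g := (H.cover g).choose_spec

theorem dl_eq {w : W} {g : G} : H.dl g = w ↔ C w g :=
  ⟨fun h => h ▸ H.dl_spec g, fun h => H.unique (H.dl_spec g) h⟩

theorem dl_mul_left {g b : G} (hb : b ∈ B) : H.dl (b * g) = H.dl g := H.dl_eq.2 (H.mul_left (H.dl_spec g) hb)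

theorem dl_mul_right {g b : G} (hb : b ∈ B) : H.dl (g * b) = H.dl g := H.dl_eq.2 (H.mul_right (H.dl_spec g) hb)

/-- the cell of a coset of `B` -/
noncomputable def dq (c : G ⧸ B) : W := H.dl c.out

theorem dq_mk (g : G) : H.dq (g : G ⧸ B) = H.dl g := by
  unfold dq
  obtain ⟨b, hb⟩ := QuotientGroup.mk_out_eq_mul B g
  rw [hb, H.dl_mul_right b.2]

theorem dq_smul {b : G} (hb : b ∈ B) (c : G ⧸ B) : H.dq (b • c) = H.dq c := by
  induction c using QuotientGroup.induction_on with
  | H g =>
    have : b • (g : G ⧸ B) = ((b * g : G) : G ⧸ B) := rfl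
    rw [this, H.dq_mk, H.dq_mk, H.dl_mul_left hb]

/-- the projection of the cosets of `B` to the cosets of `P K` -/
def pr (K : Set I) : G ⧸ B → G ⧸ P K := Subgroup.quotientMapOfLE (H.B_le K)

theorem pr_mk (K : Set I) (g : G) : H.pr K (g : G ⧸ B) = (g : G ⧸ P K) := rfl

theorem pr_smul (K : Set I) (a : G) (c : G ⧸ B) : H.pr K (a • c) = a • H.pr K c := by
  induction c using QuotientGroup.induction_on with
  | H g => rfl

/-- every coset of `P K` contains exactly one coset of `B` which is minimal -/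
theorem pr_inj (K : Set I) {c c' : G ⧸ B} (h : IsMinR cs K (H.dq c)) (h' : IsMinR cs K (H.dq c'))
    (e : H.pr K c = H.pr K c') : c = c' := by
  induction c using QuotientGroup.induction_on with
  | H g =>
  induction c' using QuotientGroup.induction_on with
  | H g' =>
    rw [H.dq_mk] at h h'
    rw [H.pr_mk, H.pr_mk, QuotientGroup.eq] at e
    obtain ⟨u, hu, hc⟩ := H.mem_P.1 e
    have h1 : C (H.dl g * u) (g * (g⁻¹ * g')) := H.mul (h u hu) (H.dl_spec g) hc
    rw [mul_inv_cancel_left] at h1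
    have h2 := IsMinR.unique cs h h' hu (H.dl_eq.2 h1)
    have h3 : u = 1 := by
      have h4 : H.dl g' = H.dl g * u := H.dl_eq.2 h1
      rw [h2] at h4
      exact (mul_eq_left.1 h4.symm)
    rw [h3] at hc
    rw [QuotientGroup.eq]
    exact H.one.1 hc

theorem pr_surj (K : Set I) (q : G ⧸ P K) : ∃ c : G ⧸ B, IsMinR cs K (H.dq c) ∧ H.pr K c = q := by
  induction q using QuotientGroup.induction_on with
  | H g =>
    obtain ⟨v, hv, u, hu, e⟩ := exists_isMinR cs K (H.dl g)
    obtain ⟨a, ha⟩ := H.ex v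
    obtain ⟨c, hc⟩ := H.ex u
    have h1 : C (v * u) (a * c) := H.mul (hv u hu) ha hc
    have h2 : C (v * u) g := H.dl_eq.1 e
    obtain ⟨b, hb, b', hb', e'⟩ := H.single h1 h2
    refine ⟨((b * a : G) : G ⧸ B), ?_, ?_⟩
    · rw [H.dq_mk, H.dl_eq.2 (H.mul_left ha hb)]
      exact hv
    · rw [H.pr_mk, QuotientGroup.eq]
      have h3 : (b * a)⁻¹ * g = c * b' := by rw [e']; group
      rw [h3]
      exact mul_mem (H.mem_P.2 ⟨u, hu, hc⟩) (H.B_le K hb')

/-- the minimal cosets fixed by `b ∈ B` inside `P J` correspond to the fixed cosets of `P K` inside `P J` -/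
noncomputable def equiv (K J : Set I) (hKJ : K ⊆ J) {b : G} (hb : b ∈ B) :
    {c : G ⧸ B // (H.dq c ∈ WJ cs J ∧ b • c = c) ∧ IsMinR cs K (H.dq c)} ≃
      {q : G ⧸ P K // (∃ g ∈ P J, (g : G ⧸ P K) = q) ∧ b • q = q} := by
  refine Equiv.ofBijective (fun c => ⟨H.pr K c.1, ?_, ?_⟩) ⟨?_, ?_⟩
  · obtain ⟨c, ⟨h1, h2⟩, h3⟩ := c
    induction c using QuotientGroup.induction_on with
    | H g =>
      rw [H.dq_mk] at h1
      exact ⟨g, H.mem_P.2 ⟨_, h1, H.dl_spec g⟩, rfl⟩
  · rw [← H.pr_smul, c.2.1.2]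
  · rintro ⟨c, ⟨h1, h2⟩, h3⟩ ⟨c', ⟨h1', h2'⟩, h3'⟩ e
    exact Subtype.ext (H.pr_inj K h3 h3' (congrArg Subtype.val e))
  · rintro ⟨q, ⟨g, hg, rfl⟩, h2⟩
    obtain ⟨c, hc, e⟩ := H.pr_surj K (g : G ⧸ P K)
    refine ⟨⟨c, ⟨?_, ?_⟩, hc⟩, Subtype.ext e⟩
    · induction c using QuotientGroup.induction_on with
      | H k =>
        rw [H.dq_mk]
        rw [H.pr_mk, QuotientGroup.eq] at e
        have h3 : P K ≤ P J := by
          intro x hx
          obtain ⟨w, hw, hx⟩ := H.mem_P.1 hx
          exact H.mem_P.2 ⟨w, Subgroup.closure_mono (Set.image_mono hKJ) hw, hx⟩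
        have h4 : k ∈ P J := by
          have : k = g * (k⁻¹ * g)⁻¹ := by group
          rw [this]
          exact mul_mem hg (inv_mem (h3 e))
        obtain ⟨w, hw, hx⟩ := H.mem_P.1 h4
        rwa [H.dl_eq.2 hx]
    · apply H.pr_inj K
      · rwa [H.dq_smul hb]
      · exact hc
      · rw [H.pr_smul, e, h2]

omit [Group G] H in
/-- for `v ∈ W_J`: `v` is the longest element iff it is nowhere ascending -/
theorem eq_longest_iff {J : Set I} {w v : W} (hw : IsLongest cs J w) (hv : v ∈ WJ cs J) :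
    v = w ↔ ∀ i ∈ J, ¬ cs.length v < cs.length (v * cs.simple i) := by
  constructor
  · rintro rfl i hi
    have := (hw.2 _ (simple_mem_WJ cs hi)).1
    omega
  · intro h
    by_contra hne
    -- `u = w v` is nontrivial
    obtain ⟨ω, hω, hred, hp⟩ := exists_reduced_of_mem_WJ cs (mul_mem (inv_mem hv) hw.1)
    cases ω with
    | nil =>
      rw [wordProd_nil] at hp
      exact hne (inv_mul_eq_one.1 hp.symm)
    | cons i ω =>
      have hi : i ∈ J := hω i (by simp)
      have h1 : cs.length (cs.simple i * (v⁻¹ * w)) < cs.length (v⁻¹ * w) := by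
        rw [← hp, wordProd_cons, simple_mul_simple_cancel_left]
        have h2 : cs.IsReduced ω := by
          have := hred.drop 1
          simpa using this
        have h3 := hred.eq
        rw [wordProd_cons] at h3
        rw [h3, h2.eq, List.length_cons]
        omega
      apply h i hi
      have h4 := (hw.2 v⁻¹ (inv_mem hv)).2
      have h5 := (hw.2 (v * cs.simple i)⁻¹ (inv_mem (mul_mem hv (simple_mem_WJ cs hi)))).2
      rw [mul_inv_rev, inv_simple, mul_assoc] at h5
      have h6 : cs.length (cs.simple i * v⁻¹) = cs.length (v * cs.simple i) := by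
        rw [← cs.length_inv (v * cs.simple i), mul_inv_rev, inv_simple]
      rw [h6] at h5
      rw [cs.length_inv] at h4
      omega

/-- **The alternating sum over the parabolic subgroups of the fixed cosets.** -/
theorem sum_fixed [Finite (G ⧸ B)] [DecidableEq I] (J : Finset I) {w : W} (hw : IsLongest cs (J : Set I) w) {b : G}
    (hb : b ∈ B) :
    ∑ K ∈ J.powerset, (-1 : ℤ) ^ K.card *
        (Nat.card {q : G ⧸ P (K : Set I) // (∃ g ∈ P (J : Set I), (g : G ⧸ P (K : Set I)) = q) ∧ b • q = q} : ℤ) =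
      (Nat.card {c : G ⧸ B // H.dq c = w ∧ b • c = c} : ℤ) := by
  classical
  have : Fintype (G ⧸ B) := Fintype.ofFinite _
  set S : Finset (G ⧸ B) := Finset.univ.filter fun c => H.dq c ∈ WJ cs (J : Set I) ∧ b • c = c with hS
  have h1 : ∀ K ∈ J.powerset, (-1 : ℤ) ^ K.card *
      (Nat.card {q : G ⧸ P (K : Set I) // (∃ g ∈ P (J : Set I), (g : G ⧸ P (K : Set I)) = q) ∧ b • q = q} : ℤ) =
      ∑ c ∈ S, if K ⊆ J.filter (fun i => cs.length (H.dq c) < cs.length (H.dq c * cs.simple i)) then
        (-1 : ℤ) ^ K.card else 0 := by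
    intro K hK
    rw [Finset.mem_powerset] at hK
    have h2 : (K : Set I) ⊆ (J : Set I) := by exact_mod_cast hK
    rw [← Nat.card_congr (H.equiv (K : Set I) (J : Set I) h2 hb)]
    have h3 : Nat.card {c : G ⧸ B // (H.dq c ∈ WJ cs (J : Set I) ∧ b • c = c) ∧ IsMinR cs (K : Set I) (H.dq c)} =
        (S.filter fun c => K ⊆ J.filter (fun i => cs.length (H.dq c) < cs.length (H.dq c * cs.simple i))).card := by
      rw [Nat.card_eq_fintype_card, Fintype.card_subtype]
      congr 1
      ext c
      simp only [hS, Finset.mem_filter, Finset.mem_univ, true_and]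
      refine and_congr Iff.rfl ?_
      rw [isMinR_iff]
      constructor
      · intro h i hi
        rw [Finset.mem_filter]
        exact ⟨hK hi, h i (by exact_mod_cast hi)⟩
      · intro h i hi
        exact (Finset.mem_filter.1 (h (by exact_mod_cast hi))).2
    rw [h3, Finset.card_filter]
    push_cast
    rw [Finset.mul_sum]
    refine Finset.sum_congr rfl fun c _ => ?_
    split_ifs <;> simp
  rw [Finset.sum_congr rfl h1, Finset.sum_comm]
  have h4 : ∀ c ∈ S, (∑ K ∈ J.powerset,
      if K ⊆ J.filter (fun i => cs.length (H.dq c) < cs.length (H.dq c * cs.simple i)) then (-1 : ℤ) ^ K.card else 0) =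
      if H.dq c = w then 1 else 0 := by
    intro c hc
    have hcJ : H.dq c ∈ WJ cs (J : Set I) := (Finset.mem_filter.1 hc).2.1
    rw [← Finset.sum_filter]
    have h5 : J.powerset.filter
        (fun K => K ⊆ J.filter (fun i => cs.length (H.dq c) < cs.length (H.dq c * cs.simple i))) =
        (J.filter (fun i => cs.length (H.dq c) < cs.length (H.dq c * cs.simple i))).powerset := by
      ext K
      rw [Finset.mem_filter, Finset.mem_powerset, Finset.mem_powerset]
      exact ⟨fun h => h.2, fun h => ⟨h.trans (Finset.filter_subset _ _), h⟩⟩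
    rw [h5, Finset.sum_powerset_neg_one_pow_card]
    refine if_congr ?_ rfl rfl
    rw [eq_longest_iff hw hcJ, Finset.filter_eq_empty_iff]
    exact ⟨fun h i hi => h (by exact_mod_cast hi), fun h i hi => h i (by exact_mod_cast hi)⟩
  rw [Finset.sum_congr rfl h4, Finset.sum_boole, Nat.card_eq_fintype_card, Fintype.card_subtype, hS,
    Finset.filter_filter]
  congr 2
  ext c
  simp only [Finset.mem_filter, Finset.mem_univ, true_and]
  constructor
  · rintro ⟨⟨h1, h2⟩, h3⟩
    exact ⟨h3, h2⟩
  · rintro ⟨h3, h2⟩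
    exact ⟨⟨h3 ▸ hw.1, h2⟩, h3⟩

end Bru

end Cfsg.Agent.H115
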