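import Mathlib
import Cfsg.Agent.H115.OfRGD
import Cfsg.Agent.Nodes.RGDChev
import Cfsg.Prelude.Def_ParabolicCharacters

/-!
# The standard subgroups of the tabulated Chevalley groups and their root group datum (helper115)

`D` one of the seven tabulated data, `R` the root group datum `Nodes.RGDChev.rgd` of `D.group K`.

* `sup_pos_eq`, `borel_eq`, `parabolicIn_eq` : `U`, `B`, `P_J` of `R` are the subgroups `posUnipotent`,
  `borelSubgroup`, `parabolicIn` of the Prelude.
-/

set_option autoImplicit false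
set_option linter.unusedSectionVars false

namespace Cfsg.Agent.H115

open CoxeterSystem Cfsg.Agent.ChevalleyStructure.CoxeterGeom Cfsg.Agent.Tits.Roots Cfsg.Agent.Tits.Core
  Cfsg.Agent.Tits.Exchange Cfsg.Agent.Nodes.Reps Cfsg.Agent.Nodes.BNOf Cfsg.Agent.Nodes.StabComb
  Cfsg.Agent.Nodes.Bruhat Cfsg.Agent.Nodes.OppDec Cfsg.Agent.Nodes.LeviDec Cfsg.Agent.Nodes.NormalForm
open Cfsg.Lie Cfsg.Agent.ChevalleyStructure Cfsg.Agent.ChevalleyStructure.Elts
  Cfsg.Agent.ChevalleyStructure.RootVec Cfsg.Agent.Nodes.RGDChev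

section General

variable {I W Y : Type*} [Fintype I] [DecidableEq I] [Group W] [Group Y] {M : CoxeterMatrix I}
  {cs : CoxeterSystem M W} {A : I → I → ℤ} {h : IsCartan M A} {p : ℕ} {T : Subgroup Y} {n : I → Y}
  {X : (I → ℤ) → Subgroup Y}

/-- `P_J` is generated by `B` and the `n i`, `i ∈ J` -/
theorem PJ_eq_closure [Finite W] (R : RGD cs h p T n X) (J : Set I) :
    PJ cs h T X J = RGD.B cs h T X ⊔ Subgroup.closure (n '' J) := by
  apply le_antisymm
  · intro g hg
    obtain ⟨w, hw, b₁, hb₁, k, hk, b₂, hb₂, rfl⟩ := (mem_PJ_iff_cell R).1 hg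
    have hB : RGD.B cs h T X ≤ RGD.B cs h T X ⊔ Subgroup.closure (n '' J) := le_sup_left
    refine mul_mem (mul_mem (hB hb₁) ?_) (hB hb₂)
    obtain ⟨ω, hω, rfl⟩ := exists_word_of_mem_WJ cs hw
    clear hw hg
    induction ω generalizing k with
    | nil =>
      rw [wordProd_nil] at hk
      exact hB (RGD.T_le_B hk.mem_of_one)
    | cons i ω ih =>
      rw [wordProd_cons] at hk
      have h1 : Rp cs R.nsys (cs.wordProd ω) ((n i)⁻¹ * k) := by
        have := (rp_simple cs R.nsys i).inv.mul hk
        rwa [inv_mul_cancel_left] at this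
      have h2 := ih _ (fun j hj => hω j (by simp [hj])) h1
      have h3 : k = n i * ((n i)⁻¹ * k) := by group
      rw [h3]
      have h4 : n i ∈ Subgroup.closure (n '' J) := Subgroup.subset_closure ⟨i, hω i (by simp), rfl⟩
      exact mul_mem ((le_sup_right : Subgroup.closure (n '' J) ≤ _) h4) h2
  · refine sup_le B_le_PJ ((Subgroup.closure_le _).2 ?_)
    rintro _ ⟨i, hi, rfl⟩
    exact LJ_le_PJ (n_mem_LJ R hi)

end General

section Chev

universe u

variable {D : ChevalleyDatum} {l : ℕ} {M : CoxeterMatrix (Fin l)} (hp : IsType D l M)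
  {K : Type u} [Field K]

theorem pos_iff_vec (hp : IsType D l M) {s : ℕ} (hs : s < D.nroots) : D.IsPosRoot s ↔ 0 ≤ vec D l s := by
  rw [RootVec.isPosRoot_iff hp.checked]
  constructor
  · rintro ⟨-, h⟩ i
    exact h i (lt_rank hp i)
  · intro h
    refine ⟨hs, fun i hi => ?_⟩
    have hi' : i < l := by rw [← hp.rank_eq]; exact hi
    exact h ⟨i, hi'⟩

include hp

variable {W : Type*} [Group W] (cs : CoxeterSystem M W)

theorem borel_le_group : D.borelSubgroup K ≤ D.group K :=
  sup_le ((posUnipotent_le_iff hp.inList _).2 fun r _ t => xG_mem_group hp.inList r t)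
    ((diagonal_le_iff hp.inList _).2 fun r _ t _ => hG_mem_group hp.inList r t)

theorem pos_le_group : D.posUnipotent K ≤ D.group K := le_trans le_sup_left (borel_le_group hp)

theorem diagonal_le_group : D.diagonalSubgroup K ≤ D.group K := le_trans le_sup_right (borel_le_group hp)

/-- the positive root groups generate `posUnipotent` -/
theorem sup_pos_GL : RGD.Sup (XV D l K) (RGD.Pos cs hp.isCartan) = D.posUnipotent K := by
  apply le_antisymm
  · refine RGD.Sup_le ?_
    rintro x ⟨hx, h0⟩
    obtain ⟨r, hr, rfl⟩ := (isRoot_iff hp cs x).1 hx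
    rw [XV_vec hp K hr]
    intro g hg
    obtain ⟨t, rfl⟩ := (mem_rootSubgroup_iff hp.inList r g).1 hg
    exact xG_mem_posUnipotent hp.inList ((pos_iff_vec hp hr).2 h0) t
  · refine (posUnipotent_le_iff hp.inList _).2 fun r hr t => ?_
    have hz : vec D l r ∈ RGD.Pos cs hp.isCartan := ⟨isRoot_vec hp cs hr.1, (pos_iff_vec hp hr.1).1 hr⟩
    refine RGD.le_Sup (X := XV D l K) hz ?_
    rw [XV_vec hp K hr.1]
    exact xG_mem_rootSubgroup hp.inList r t

/-- the map of a join of root groups -/
theorem map_Sup (S : Set (Fin l → ℤ)) :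
    (RGD.Sup (fun x => (XV D l K x).subgroupOf (D.group K)) S).map (D.group K).subtype = RGD.Sup (XV D l K) S := by
  unfold RGD.Sup
  rw [Subgroup.map_iSup]
  refine iSup_congr fun z => ?_
  rw [Subgroup.subgroupOf_map_subtype, inf_eq_left.2 (XV_le_group hp _)]

theorem sup_pos_eq : RGD.Sup (fun x => (XV D l K x).subgroupOf (D.group K)) (RGD.Pos cs hp.isCartan) =
    (D.posUnipotent K).subgroupOf (D.group K) := by
  apply Subgroup.map_injective (D.group K).subtype_injective
  rw [map_Sup hp, sup_pos_GL hp cs, Subgroup.subgroupOf_map_subtype, inf_eq_left.2 (pos_le_group hp)]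

theorem borel_eq : RGD.B cs hp.isCartan ((D.diagonalSubgroup K).subgroupOf (D.group K))
    (fun x => (XV D l K x).subgroupOf (D.group K)) = (D.borelSubgroup K).subgroupOf (D.group K) := by
  apply Subgroup.map_injective (D.group K).subtype_injective
  unfold RGD.B
  rw [Subgroup.map_sup, map_Sup hp, sup_pos_GL hp cs, Subgroup.subgroupOf_map_subtype,
    Subgroup.subgroupOf_map_subtype, inf_eq_left.2 (diagonal_le_group hp), inf_eq_left.2 (borel_le_group hp), sup_comm]
  rfl

/-- **the parabolic subgroups of the Prelude are those of the root group datum** -/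
theorem parabolicIn_eq [Finite K] [Finite W] (p : ℕ) [Fact p.Prime] [CharP K p] (J : Finset (Fin l)) :
    PJ cs hp.isCartan ((D.diagonalSubgroup K).subgroupOf (D.group K))
      (fun x => (XV D l K x).subgroupOf (D.group K)) (J : Set (Fin l)) =
        D.parabolicIn K (J.map Fin.valEmbedding) := by
  rw [PJ_eq_closure (rgd (K := K) hp cs p) (J : Set (Fin l)), borel_eq hp cs]
  unfold ChevalleyDatum.parabolicIn ChevalleyDatum.parabolicSubgroup
  apply Subgroup.map_injective (D.group K).subtype_injective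
  have hset : {g : GL D.Idx K | ∃ j ∈ ((J.map Fin.valEmbedding : Finset ℕ) : Set ℕ), j < D.rank ∧
      (g : Matrix D.Idx D.Idx K) = D.nMat K (D.simple j) 1} = (fun i => nn hp K i) '' (J : Set (Fin l)) := by
    ext g
    constructor
    · rintro ⟨j, hj, hj', e⟩
      rw [Finset.mem_coe, Finset.mem_map] at hj
      obtain ⟨i, hi, rfl⟩ := hj
      refine ⟨i, by exact_mod_cast hi, ?_⟩
      exact ((eq_nG_iff hp.inList g _ _).2 e).symm
    · rintro ⟨i, hi, rfl⟩
      refine ⟨i, ?_, lt_rank hp i, ?_⟩
      · rw [Finset.mem_coe, Finset.mem_map]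
        exact ⟨i, by exact_mod_cast hi, rfl⟩
      · exact coe_nG hp.inList _ _
  have hle : D.borelSubgroup K ⊔ Subgroup.closure ((fun i => nn hp K i) '' (J : Set (Fin l))) ≤ D.group K := by
    refine sup_le (borel_le_group hp) ((Subgroup.closure_le _).2 ?_)
    rintro _ ⟨i, -, rfl⟩
    exact nn_mem_group hp i
  rw [hset, Subgroup.subgroupOf_map_subtype, inf_eq_left.2 hle, Subgroup.map_sup, Subgroup.subgroupOf_map_subtype,
    inf_eq_left.2 (borel_le_group hp), MonoidHom.map_closure, ← Set.image_comp]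
  rfl

end Chev

end Cfsg.Agent.H115
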