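import Mathlib
import Cfsg.Agent.H115.OfRGD

/-!
# Elements of `p`-power order: quotients by central `p'`-subgroups, kernels of maps to `p'`-groups (helper115)
-/

set_option autoImplicit false

namespace Cfsg.Agent.H115

open Cfsg.Agent.Nodes.RGDChev

variable {G : Type*} [Group G] {p : ℕ}

/-- An element of order prime to `p` and a power of `p` is trivial. -/
theorem eq_one_of_pel {g : G} (hg : ∃ k : ℕ, orderOf g = p ^ k) {m : ℕ} (hm : g ^ m = 1) (hc : m.Coprime p) :
    g = 1 := by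
  obtain ⟨k, hk⟩ := hg
  have h1 : orderOf g ∣ m := orderOf_dvd_of_pow_eq_one hm
  rw [hk] at h1
  have h2 : p ^ k = 1 := Nat.Coprime.eq_one_of_dvd (Nat.Coprime.pow_left k hc.symm) h1
  rw [← orderOf_eq_one_iff, hk, h2]

/-- The number of elements of `p`-power order does not change in the quotient by a central `p'`-subgroup. -/
theorem card_pel_quot [Finite G] [hp : Fact p.Prime] (N : Subgroup G) [N.Normal] (hN : N ≤ Subgroup.center G)
    (hc : (Nat.card N).Coprime p) :
    Nat.card {g : G // ∃ k : ℕ, orderOf g = p ^ k} = Nat.card {g : G ⧸ N // ∃ k : ℕ, orderOf g = p ^ k} := by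
  refine Nat.card_congr (Equiv.ofBijective (fun g => ⟨(g.1 : G ⧸ N), ?_⟩) ⟨?_, ?_⟩)
  · obtain ⟨k, hk⟩ := g.2
    have h1 : orderOf (g.1 : G ⧸ N) ∣ p ^ k := hk ▸ orderOf_map_dvd (QuotientGroup.mk' N) g.1
    obtain ⟨m, -, hm⟩ := (Nat.dvd_prime_pow hp.1).1 h1
    exact ⟨m, hm⟩
  · rintro ⟨g, hg⟩ ⟨g', hg'⟩ e
    have e1 : (g : G ⧸ N) = (g' : G ⧸ N) := congrArg Subtype.val e
    rw [QuotientGroup.eq] at e1
    have hz := Subgroup.mem_center_iff.1 (hN e1)
    -- `z = g⁻¹ g'` commutes with `g`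
    have hcomm : Commute g⁻¹ g' := by
      have h1 : g⁻¹ * g' * g = g * (g⁻¹ * g') := (hz g).symm
      have h2 : g * (g⁻¹ * g') = g' := by group
      rw [h2] at h1
      show g⁻¹ * g' = g' * g⁻¹
      have h3 : g⁻¹ * g' * g * g⁻¹ = g' * g⁻¹ := by rw [h1]
      rwa [mul_inv_cancel_right] at h3
    have hpel : ∃ k : ℕ, orderOf (g⁻¹ * g') = p ^ k := by
      obtain ⟨k, hk⟩ := hg
      obtain ⟨k', hk'⟩ := hg'
      have h3 : (g⁻¹ * g') ^ p ^ (k + k') = 1 := by
        rw [hcomm.mul_pow, inv_pow]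
        have h4 : g ^ p ^ (k + k') = 1 := by
          rw [pow_add, pow_mul, ← hk, pow_orderOf_eq_one, one_pow]
        have h5 : g' ^ p ^ (k + k') = 1 := by
          rw [pow_add, mul_comm, pow_mul, ← hk', pow_orderOf_eq_one, one_pow]
        rw [h4, h5, inv_one, mul_one]
      obtain ⟨m, -, hm⟩ := (Nat.dvd_prime_pow hp.1).1 (orderOf_dvd_of_pow_eq_one h3)
      exact ⟨m, hm⟩
    have h6 : (g⁻¹ * g') ^ Nat.card N = 1 := by
      have := pow_card_eq_one' (x := (⟨g⁻¹ * g', e1⟩ : N))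
      have h7 := congrArg Subtype.val this
      rwa [SubgroupClass.coe_pow] at h7
    have h8 := eq_one_of_pel hpel h6 hc
    exact Subtype.ext (inv_mul_eq_one.1 h8)
  · rintro ⟨x, k, hk⟩
    induction x using QuotientGroup.induction_on with
    | H g =>
      -- `m` with `m ≡ 1 mod p ^ k`, `m ≡ 0 mod |N|`
      obtain ⟨m, hm1, hm2⟩ := Nat.chineseRemainder (Nat.Coprime.pow_right k hc) 0 1
      refine ⟨⟨g ^ m, ?_⟩, ?_⟩
      · have h1 : g ^ p ^ k ∈ N := by
          rw [← QuotientGroup.eq_one_iff, QuotientGroup.mk_pow, ← hk, pow_orderOf_eq_one]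
        have h2 : (g ^ p ^ k) ^ Nat.card N = 1 := by
          have := pow_card_eq_one' (x := (⟨g ^ p ^ k, h1⟩ : N))
          have h7 := congrArg Subtype.val this
          rwa [SubgroupClass.coe_pow] at h7
        have h3 : (g ^ m) ^ p ^ k = 1 := by
          obtain ⟨c, hc'⟩ := (Nat.modEq_zero_iff_dvd).1 hm1
          rw [← pow_mul, mul_comm, pow_mul, hc', pow_mul, h2, one_pow]
        obtain ⟨j, -, hj⟩ := (Nat.dvd_prime_pow hp.1).1 (orderOf_dvd_of_pow_eq_one h3)
        exact ⟨j, hj⟩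
      · apply Subtype.ext
        show ((g ^ m : G) : G ⧸ N) = (g : G ⧸ N)
        rw [QuotientGroup.mk_pow]
        have h4 : (g : G ⧸ N) ^ m = (g : G ⧸ N) ^ 1 := by
          rw [pow_eq_pow_iff_modEq, hk]
          exact hm2
        rw [h4, pow_one]

/-- The elements of `p`-power order lie in the kernel of a homomorphism to a group of order prime to `p`. -/
theorem card_pel_ker [hp : Fact p.Prime] {A : Type*} [Group A] [Finite A] (f : G →* A)
    (hc : (Nat.card A).Coprime p) :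
    Nat.card {g : G // ∃ k : ℕ, orderOf g = p ^ k} = Nat.card {g : f.ker // ∃ k : ℕ, orderOf g = p ^ k} := by
  refine Nat.card_congr ⟨fun g => ⟨⟨g.1, ?_⟩, ?_⟩, fun g => ⟨g.1.1, ?_⟩, fun _ => rfl, fun _ => rfl⟩
  · obtain ⟨k, hk⟩ := g.2
    rw [MonoidHom.mem_ker]
    refine eq_one_of_pel (p := p) ?_ pow_card_eq_one' hc
    have h1 : orderOf (f g.1) ∣ p ^ k := hk ▸ orderOf_map_dvd f g.1
    obtain ⟨m, -, hm⟩ := (Nat.dvd_prime_pow hp.1).1 h1
    exact ⟨m, hm⟩
  · obtain ⟨k, hk⟩ := g.2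
    exact ⟨k, by rw [Subgroup.orderOf_mk, hk]⟩
  · obtain ⟨k, hk⟩ := g.2
    exact ⟨k, by rw [Subgroup.orderOf_coe, hk]⟩

/-- The number of elements of `p`-power order under an isomorphism. -/
theorem card_pel_equiv {G' : Type*} [Group G'] (e : G ≃* G') :
    Nat.card {g : G // ∃ k : ℕ, orderOf g = p ^ k} = Nat.card {g : G' // ∃ k : ℕ, orderOf g = p ^ k} :=
  Nat.card_congr (e.toEquiv.subtypeEquiv fun g => by
    have : orderOf (e.toEquiv g) = orderOf g := orderOf_injective e.toMonoidHom e.injective g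
    rw [this])

/-- **Steinberg's count** in terms of the `p`-part of the order. -/
theorem card_pel_of_hasRGD' [Finite G] [hp : Fact p.Prime] (hG : HasRGD p G) {a m : ℕ}
    (hcard : Nat.card G = p ^ a * m) (hm : ¬ p ∣ m) :
    Nat.card {g : G // ∃ k : ℕ, orderOf g = p ^ k} = (p ^ a) ^ 2 := by
  have S : Sylow p G := Classical.choice inferInstance
  rw [card_pel_of_hasRGD hG S]
  congr 1
  rw [S.card_eq_multiplicity, hcard]
  have hm0 : m ≠ 0 := by rintro rfl; exact hm (dvd_zero p)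
  rw [Nat.factorization_mul (pow_ne_zero _ hp.1.pos.ne') hm0, Finsupp.add_apply,
    Nat.Prime.factorization_pow hp.1, Finsupp.single_eq_same, Nat.factorization_eq_zero_of_not_dvd hm, add_zero]

/-- **Steinberg's count** for a group with a central `p'`-subgroup whose quotient has a root group datum. -/
theorem card_pel_of_center [Finite G] [hp : Fact p.Prime] (N : Subgroup G) [N.Normal]
    (hN : N ≤ Subgroup.center G) (hc : (Nat.card N).Coprime p) (hG : HasRGD p (G ⧸ N)) {a m : ℕ}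
    (hcard : Nat.card G = p ^ a * m) (hm : ¬ p ∣ m) :
    Nat.card {g : G // ∃ k : ℕ, orderOf g = p ^ k} = (p ^ a) ^ 2 := by
  rw [card_pel_quot N hN hc]
  have h1 : Nat.card G = Nat.card (G ⧸ N) * Nat.card N := N.card_eq_card_quotient_mul_card_subgroup
  have h2 : p ^ a ∣ Nat.card (G ⧸ N) := by
    have h3 : p ^ a ∣ Nat.card (G ⧸ N) * Nat.card N := by rw [← h1, hcard]; exact dvd_mul_right _ _
    exact (Nat.Coprime.pow_left a hc.symm).dvd_of_dvd_mul_right h3
  obtain ⟨c, hc'⟩ := h2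
  refine card_pel_of_hasRGD' hG hc' ?_
  intro hpc
  apply hm
  have h4 : p ^ a * m = p ^ a * (c * Nat.card N) := by
    rw [← hcard, h1, hc']; ring
  have h5 : m = c * Nat.card N := mul_left_cancel₀ (pow_ne_zero _ hp.1.pos.ne') h4
  rw [h5]
  exact Dvd.dvd.mul_right hpc _

end Cfsg.Agent.H115
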