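import Cfsg.Agent.H263.TW.Edge

/-!
# Thompson–Wielandt for edges of graphs with a strongly transitive group (S3414; helper115)

`G` acts on the vertices `V` of a graph with adjacency `A`; `kern A x` is the kernel of `G_x` on the neighbours of `x`.
`Hyp` : two-transitivity on neighbours, pair transitivity (`G` is transitive on the paths `w y' x y z` of length
four with the same four first or last vertices), and no nontrivial normal subgroup in an edge stabiliser.

Main result `Hyp.main` : with `E = K_x ∩ K_y`, one of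
* (A) `E` is a nontrivial `p`-group, `O_p(K_y) ≰ K_x`, `O_p(K_x) ≰ K_y`, and `G_x`, `G_y` are of characteristic `p`
  (helper263's `Edge.trichotomy`);
* (B1) `E` is normal in `G_x` and `K_x / E` is semiregular on the neighbours of `y` other than `x`;
* (B2) the same with `x`, `y` interchanged.
-/

set_option autoImplicit false
set_option linter.unusedSectionVars false

namespace Cfsg.Agent.H115.TW3414

open Subgroup Cfsg Cfsg.Agent.H263.TW MulAction
open Cfsg.Agent.H900.TWCore (mem_normalizer_of_forall)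

variable {G V : Type*} [Group G] [MulAction G V]

/-- the kernel of `G_x` on the neighbours of `x` -/
def kern (G : Type*) {V : Type*} [Group G] [MulAction G V] (A : V → V → Prop) (x : V) : Subgroup G where
  carrier := {g | g • x = x ∧ ∀ y, A x y → g • y = y}
  mul_mem' := by
    rintro a b ⟨ha, ha'⟩ ⟨hb, hb'⟩
    exact ⟨by rw [mul_smul, hb, ha], fun y hy => by rw [mul_smul, hb' y hy, ha' y hy]⟩
  one_mem' := ⟨one_smul _ _, fun _ _ => one_smul _ _⟩
  inv_mem' := by
    rintro a ⟨ha, ha'⟩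
    exact ⟨inv_smul_eq_iff.2 ha.symm, fun y hy => inv_smul_eq_iff.2 (ha' y hy).symm⟩

theorem mem_kern {A : V → V → Prop} {x : V} {g : G} :
    g ∈ kern G A x ↔ g • x = x ∧ ∀ y, A x y → g • y = y := Iff.rfl

/-- the hypotheses -/
structure Hyp (G : Type*) {V : Type*} [Group G] [MulAction G V] (A : V → V → Prop) : Prop where
  symm : ∀ {x y : V}, A x y → A y x
  smul : ∀ (g : G) {x y : V}, A x y → A (g • x) (g • y)
  two : ∀ {x y y' z z' : V}, A x y → A x y' → A x z → A x z' → y ≠ y' → z ≠ z' →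
    ∃ g : G, g • x = x ∧ g • y = z ∧ g • y' = z'
  pair : ∀ {x y y' z w w' : V}, A x y → A x y' → y ≠ y' → A y z → z ≠ x → A y' w → w ≠ x → A y' w' → w' ≠ x →
    ∃ g : G, g • x = x ∧ g • y = y ∧ g • y' = y' ∧ g • z = z ∧ g • w = w'
  other : ∀ {x y : V}, A x y → ∃ y', A x y' ∧ y ≠ y'
  core : ∀ {x y : V}, A x y → ∀ T : Subgroup G, T ≤ stabilizer G x ⊓ stabilizer G y →
    stabilizer G x ≤ normalizer (T : Set G) → stabilizer G y ≤ normalizer (T : Set G) → T = ⊥

variable {A : V → V → Prop}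

namespace Hyp

theorem one_trans (h : Hyp G A) {x y z : V} (hy : A x y) (hz : A x z) : ∃ g : G, g • x = x ∧ g • y = z := by
  obtain ⟨y', hy', hne⟩ := h.other hy
  obtain ⟨z', hz', hne'⟩ := h.other hz
  obtain ⟨g, h1, h2, -⟩ := h.two hy hy' hz hz' hne hne'
  exact ⟨g, h1, h2⟩

theorem smul_inv (h : Hyp G A) (g : G) {x y : V} (hxy : A (g • x) y) : A x (g⁻¹ • y) := by
  have := h.smul g⁻¹ hxy
  rwa [inv_smul_smul] at this

theorem conj_kern (h : Hyp G A) (g : G) {x : V} {k : G} (hk : k ∈ kern G A x) : g * k * g⁻¹ ∈ kern G A (g • x) := by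
  refine ⟨by rw [mul_smul, mul_smul, inv_smul_smul, hk.1], fun y hy => ?_⟩
  rw [mul_smul, mul_smul, hk.2 _ (h.smul_inv g hy), smul_inv_smul]

theorem stab_normalizes (h : Hyp G A) (x : V) : stabilizer G x ≤ normalizer (kern G A x : Set G) := by
  apply mem_normalizer_of_forall
  intro g hg k hk
  have := h.conj_kern g hk
  rwa [mem_stabilizer_iff.1 hg] at this

theorem kern_le (_ : Hyp G A) {x y : V} (hxy : A x y) : kern G A x ≤ stabilizer G x ⊓ stabilizer G y :=
  fun _ hk => ⟨hk.1, hk.2 y hxy⟩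

/-- the edge stabiliser is maximal -/
theorem max (h : Hyp G A) {x y : V} (hxy : A x y) (T : Subgroup G) (h1 : stabilizer G x ⊓ stabilizer G y ≤ T)
    (h2 : T ≤ stabilizer G x) : T = stabilizer G x ⊓ stabilizer G y ∨ T = stabilizer G x := by
  by_cases hT : T ≤ stabilizer G y
  · exact Or.inl (le_antisymm (le_inf h2 hT) h1)
  right
  refine le_antisymm h2 fun g hg => ?_
  obtain ⟨t, ht, hty⟩ := SetLike.not_le_iff_exists.1 hT
  have htx : t • x = x := h2 ht
  have hgx : g • x = x := hg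
  by_cases hgy : g • y = y
  · exact h1 ⟨hg, hgy⟩
  have e1 : A x (t • y) := by
    have := h.smul t hxy
    rwa [htx] at this
  have e2 : A x (g • y) := by
    have := h.smul g hxy
    rwa [hgx] at this
  obtain ⟨b, hb, hby, hbt⟩ := h.two hxy e1 hxy e2 (fun h' => hty h'.symm) (fun h' => hgy h'.symm)
  have h3 : b ∈ T := h1 ⟨hb, hby⟩
  have h4 : (b * t)⁻¹ * g ∈ T := by
    refine h1 (mem_inf.2 ⟨mem_stabilizer_iff.2 ?_, mem_stabilizer_iff.2 ?_⟩)
    · rw [mul_smul, hgx, inv_smul_eq_iff, mul_smul, htx, hb]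
    · rw [mul_smul, inv_smul_eq_iff, mul_smul, hbt]
  have h5 := mul_mem (mul_mem h3 ht) h4
  rwa [mul_inv_cancel_left] at h5

/-- the kernel is the largest normal subgroup of `G_x` in the edge stabiliser -/
theorem le_kern (h : Hyp G A) {x y : V} (hxy : A x y) (T : Subgroup G) (h1 : T ≤ stabilizer G x ⊓ stabilizer G y)
    (h2 : stabilizer G x ≤ normalizer (T : Set G)) : T ≤ kern G A x := by
  intro t ht
  refine ⟨(h1 ht).1, fun z hz => ?_⟩
  obtain ⟨g, hgx, hgy⟩ := h.one_trans hxy hz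
  have h3 : g⁻¹ * t * g ∈ T := conj_mem' (h2 hgx) ht
  have h4 : (g⁻¹ * t * g) • y = y := (h1 h3).2
  rw [mul_smul, mul_smul, hgy, inv_smul_eq_iff, hgy] at h4
  exact h4

/-- helper263's configuration -/
theorem edge (h : Hyp G A) {x y : V} (hxy : A x y) :
    Edge (stabilizer G x) (stabilizer G y) (kern G A x) (kern G A y) where
  maxX := h.max hxy
  maxY := fun T h1 h2 => by
    rw [inf_comm] at h1 ⊢
    exact h.max (h.symm hxy) T h1 h2
  both := h.core hxy
  KB := h.kern_le hxy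
  XK := h.stab_normalizes x
  leK := h.le_kern hxy
  LB := by
    rw [inf_comm]
    exact h.kern_le (h.symm hxy)
  YL := h.stab_normalizes y
  leL := fun T h1 h2 => by
    rw [inf_comm] at h1
    exact h.le_kern (h.symm hxy) T h1 h2

/-- if `E = K_x ∩ K_y` is normal in `G_x` then it is `K_x ∩ K_{y'}` for all neighbours `y'` of `x` -/
theorem mem_of_normal (h : Hyp G A) {x y y' : V} (hxy : A x y) (hxy' : A x y')
    (hE : stabilizer G x ≤ normalizer ((kern G A x ⊓ kern G A y : Subgroup G) : Set G)) {k : G} :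
    k ∈ kern G A x ⊓ kern G A y ↔ k ∈ kern G A x ⊓ kern G A y' := by
  have key : ∀ {z z' : V}, A x z → A x z' →
      stabilizer G x ≤ normalizer ((kern G A x ⊓ kern G A z : Subgroup G) : Set G) →
      k ∈ kern G A x ⊓ kern G A z → k ∈ kern G A x ⊓ kern G A z' := by
    intro z z' hz hz' hN hk
    obtain ⟨g, hgx, hgz⟩ := h.one_trans hz hz'
    have h1 : g⁻¹ * k * g ∈ kern G A x ⊓ kern G A z := conj_mem' (hN hgx) hk
    have h2 := h.conj_kern g h1.2
    rw [hgz] at h2
    have h3 : g * (g⁻¹ * k * g) * g⁻¹ = k := by group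
    rw [h3] at h2
    exact ⟨hk.1, h2⟩
  refine ⟨key hxy hxy' hE, ?_⟩
  obtain ⟨g, hgx, hgz⟩ := h.one_trans hxy hxy'
  intro hk
  have h1 : g⁻¹ * k * g ∈ kern G A x ⊓ kern G A y := by
    refine ⟨conj_mem' (h.stab_normalizes x hgx) hk.1, ?_⟩
    have h2 := h.conj_kern g⁻¹ hk.2
    rw [← hgz, inv_smul_smul, inv_inv] at h2
    exact h2
  have h3 := conj_mem (hE hgx) h1
  have h4 : g * (g⁻¹ * k * g) * g⁻¹ = k := by group
  rwa [h4] at h3

/-- **semiregularity** -/
theorem semireg (h : Hyp G A) {x y : V} (hxy : A x y)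
    (hE : stabilizer G x ≤ normalizer ((kern G A x ⊓ kern G A y : Subgroup G) : Set G))
    (hL : ¬ kern G A y ≤ kern G A x) {k : G} (hk : k ∈ kern G A x) {z : V} (hz : A y z) (hzx : z ≠ x)
    (hkz : k • z = z) : k ∈ kern G A y := by
  obtain ⟨l, hl, hlx⟩ := SetLike.not_le_iff_exists.1 hL
  have hlx' : l • x = x := hl.2 x (h.symm hxy)
  -- a neighbour of `x` moved by `l`
  obtain ⟨y1, hy1, hly1⟩ : ∃ y1, A x y1 ∧ l • y1 ≠ y1 := by
    by_contra hno
    push Not at hno
    exact hlx ⟨hlx', hno⟩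
  have hly1' : A x (l • y1) := by
    have := h.smul l hy1
    rwa [hlx'] at this
  obtain ⟨y2, hy2, hne2⟩ := h.other hxy
  obtain ⟨g, hgx, hg1, hg2⟩ := h.two hy1 hly1' hxy hy2 (fun h' => hly1 h'.symm) hne2
  -- `d` moves `y` to `y2` and centralises `K_x` modulo `E`
  set d : G := g * l * g⁻¹ with hd
  have hgx' : g⁻¹ • x = x := inv_smul_eq_iff.2 hgx.symm
  have hdx : d • x = x := by rw [hd, mul_smul, mul_smul, hgx', hlx', hgx]
  have hdy : d • y = y2 := by
    rw [hd, mul_smul, mul_smul, ← hg1, inv_smul_smul, hg2]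
  have hlK : ∀ k ∈ kern G A x, l * k * l⁻¹ * k⁻¹ ∈ kern G A x ⊓ kern G A y := by
    intro k hk
    refine mem_inf.2 ⟨mul_mem (conj_mem (h.stab_normalizes x hlx') hk) (inv_mem hk), ?_⟩
    have hky : k ∈ stabilizer G y := hk.2 y hxy
    have h1 := conj_mem (h.stab_normalizes y hky) (inv_mem hl)
    have h2 := mul_mem hl h1
    have h3 : l * (k * l⁻¹ * k⁻¹) = l * k * l⁻¹ * k⁻¹ := by group
    rwa [h3] at h2
  have hdK : ∀ k ∈ kern G A x, d * k * d⁻¹ * k⁻¹ ∈ kern G A x ⊓ kern G A y := by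
    intro k hk
    have h1 := hlK (g⁻¹ * k * g) (conj_mem' (h.stab_normalizes x hgx) hk)
    have h2 := conj_mem (hE hgx) h1
    have h3 : g * (l * (g⁻¹ * k * g) * l⁻¹ * (g⁻¹ * k * g)⁻¹) * g⁻¹ = d * k * d⁻¹ * k⁻¹ := by
      rw [hd]
      group
    rwa [h3] at h2
  -- all `k ∈ K_x` fixing `z` fix `w = d z`
  have hw : ∀ k ∈ kern G A x, k • z = z → k • (d • z) = d • z := by
    intro k hk hkz
    have h1 := (h.mem_of_normal hxy hy2 hE).1 (hdK k hk)
    have hwA : A y2 (d • z) := by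
      have := h.smul d hz
      rwa [hdy] at this
    have h2 := h1.2.2 _ hwA
    have h3 : (d * k * d⁻¹) • (d • z) = d • z := by
      rw [mul_smul, mul_smul, inv_smul_smul, hkz]
    have h4 : (d * k * d⁻¹ * k⁻¹)⁻¹ • (d • z) = d • z := inv_smul_eq_iff.2 h2.symm
    have h5 : k = (d * k * d⁻¹ * k⁻¹)⁻¹ * (d * k * d⁻¹) := by group
    calc k • (d • z) = ((d * k * d⁻¹ * k⁻¹)⁻¹ * (d * k * d⁻¹)) • (d • z) := by rw [← h5]
      _ = d • z := by rw [mul_smul, h3, h4]
  have hwA : A y2 (d • z) := by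
    have := h.smul d hz
    rwa [hdy] at this
  have hwx : d • z ≠ x := by
    intro h'
    apply hzx
    have h1 : d • z = d • x := by rw [h', hdx]
    exact (smul_left_cancel_iff d).1 h1
  -- all of `Γ(y2)` is fixed
  have h6 : k ∈ kern G A x ⊓ kern G A y2 := by
    refine ⟨hk, hk.2 y2 hy2, fun w' hw' => ?_⟩
    by_cases hw'x : w' = x
    · rw [hw'x]
      exact hk.1
    obtain ⟨a, hax, hay, hay2, haz, haw⟩ := h.pair hxy hy2 hne2 hz hzx hwA hwx hw' hw'x
    have h7 : a⁻¹ * k * a ∈ kern G A x := conj_mem' (h.stab_normalizes x hax) hk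
    have h8 : (a⁻¹ * k * a) • z = z := by
      rw [mul_smul, mul_smul, haz, hkz]
      exact inv_smul_eq_iff.2 haz.symm
    have h9 := hw _ h7 h8
    rw [mul_smul, mul_smul, haw, inv_smul_eq_iff, haw] at h9
    exact h9
  exact ((h.mem_of_normal hxy hy2 hE).2 h6).2

/-- **Thompson–Wielandt** -/
theorem main [Finite G] (h : Hyp G A) {x y : V} (hxy : A x y) :
    (∃ p : ℕ, p.Prime ∧ IsPGroup p (kern G A x ⊓ kern G A y : Subgroup G) ∧ kern G A x ⊓ kern G A y ≠ ⊥ ∧
        ¬ cp p (kern G A y) ≤ kern G A x ∧ ¬ cp p (kern G A x) ≤ kern G A y ∧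
        (∀ g ∈ stabilizer G x, (∀ k ∈ cp p (kern G A x), g * k = k * g) → g ∈ cp p (kern G A x)) ∧
        ∀ g ∈ stabilizer G y, (∀ k ∈ cp p (kern G A y), g * k = k * g) → g ∈ cp p (kern G A y)) ∨
    (stabilizer G x ≤ normalizer ((kern G A x ⊓ kern G A y : Subgroup G) : Set G) ∧
      ∀ k ∈ kern G A x, ∀ z, A y z → z ≠ x → k • z = z → k ∈ kern G A y) ∨
    (stabilizer G y ≤ normalizer ((kern G A x ⊓ kern G A y : Subgroup G) : Set G) ∧
      ∀ k ∈ kern G A y, ∀ z, A x z → z ≠ y → k • z = z → k ∈ kern G A x) := by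
  -- both cases together
  have key : ∀ {x y : V}, A x y →
      stabilizer G x ≤ normalizer ((kern G A x ⊓ kern G A y : Subgroup G) : Set G) →
      (stabilizer G x ≤ normalizer ((kern G A x ⊓ kern G A y : Subgroup G) : Set G) ∧
        ∀ k ∈ kern G A x, ∀ z, A y z → z ≠ x → k • z = z → k ∈ kern G A y) ∨
      (stabilizer G y ≤ normalizer ((kern G A x ⊓ kern G A y : Subgroup G) : Set G) ∧
        ∀ k ∈ kern G A y, ∀ z, A x z → z ≠ y → k • z = z → k ∈ kern G A x) := by
    intro x y hxy hE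
    by_cases hL : kern G A y ≤ kern G A x
    · right
      refine ⟨?_, fun k hk _ _ _ _ => hL hk⟩
      rw [inf_eq_right.2 hL]
      exact h.stab_normalizes y
    · exact Or.inl ⟨hE, fun k hk z hz hzx hkz => h.semireg hxy hE hL hk hz hzx hkz⟩
  rcases (h.edge hxy).trichotomy with h1 | h1 | h1
  · exact Or.inr (key hxy h1)
  · rw [inf_comm] at h1
    right
    rcases key (h.symm hxy) h1 with ⟨h2, h3⟩ | ⟨h2, h3⟩
    · right
      rw [inf_comm] at h2
      exact ⟨h2, h3⟩
    · left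
      rw [inf_comm] at h2
      exact ⟨h2, h3⟩
  · exact Or.inl h1

end Hyp

end Cfsg.Agent.H115.TW3414
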